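import Groth.Agent.NoetherNormZ.Basic
import Mathlib

/-!
# Noether normalisation of a polynomial ring adapted to an ideal
-/

set_option autoImplicit false

universe u

open MvPolynomial

namespace Groth.Agent.H1Quasi

/-- Kill the variables of index `≥ r`. -/
noncomputable def killGE (k : Type u) [CommRing k] {n : ℕ} (r : ℕ) : MvPolynomial (Fin n) k →ₐ[k] MvPolynomial (Fin r) k :=
  aeval fun i => if h : (i : ℕ) < r then X ⟨i, h⟩ else 0

/-- The ideal of the variables of index `≥ r`. -/
noncomputable abbrev spanGE (k : Type u) [CommRing k] (n r : ℕ) : Ideal (MvPolynomial (Fin n) k) :=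
  Ideal.span (Set.range fun i : {i : Fin n // r ≤ (i : ℕ)} => (X (i : Fin n) : MvPolynomial (Fin n) k))

theorem sub_rename_killGE_mem (k : Type u) [CommRing k] {n r : ℕ} (hr : r ≤ n) (g : MvPolynomial (Fin n) k) :
    g - rename (Fin.castLE hr) (killGE k r g) ∈ spanGE k n r := by
  induction g using MvPolynomial.induction_on with
  | C a => rw [killGE, aeval_C, MvPolynomial.algebraMap_eq, rename_C, sub_self]; exact zero_mem _
  | add p q hp hq => rw [map_add, map_add, add_sub_add_comm]; exact add_mem hp hq
  | mul_X p i hp =>
    rw [map_mul, map_mul, killGE, aeval_X]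
    by_cases h : (i : ℕ) < r
    · rw [dif_pos h, rename_X]
      have : Fin.castLE hr ⟨i, h⟩ = i := Fin.ext rfl
      rw [this, ← sub_mul]
      exact Ideal.mul_mem_right _ _ hp
    · rw [dif_neg h, map_zero, mul_zero, sub_zero]
      exact Ideal.mul_mem_left _ _ (Ideal.subset_span ⟨⟨i, not_lt.1 h⟩, rfl⟩)

theorem killGE_eq_zero_of_mem (k : Type u) [CommRing k] {n r : ℕ} (g : MvPolynomial (Fin n) k)
    (hg : g ∈ spanGE k n r) : killGE k r g = 0 := by
  refine (Ideal.span_le (I := RingHom.ker (killGE (n := n) k r))).2 ?_ hg
  rintro _ ⟨⟨i, hi⟩, rfl⟩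
  rw [SetLike.mem_coe, RingHom.mem_ker, killGE, aeval_X, dif_neg (not_lt.2 hi)]

theorem killGE_rename (k : Type u) [CommRing k] {n r : ℕ} (hr : r ≤ n) (g : MvPolynomial (Fin r) k) :
    killGE k r (rename (Fin.castLE hr) g) = g := by
  rw [killGE, aeval_rename]
  exact (congrArg (fun f => aeval f g) (funext fun i => by simp)).trans (aeval_X_left_apply g)

/-- Noether normalisation adapted to an ideal. -/
theorem exists_finite_comap_eq (k : Type u) [Field k] : ∀ (n : ℕ) (I : Ideal (MvPolynomial (Fin n) k)), I ≠ ⊤ →
    ∃ (r : ℕ) (_ : r ≤ n) (h : MvPolynomial (Fin n) k →ₐ[k] MvPolynomial (Fin n) k),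
      h.toRingHom.IsIntegral ∧ I.comap h.toRingHom = spanGE k n r := by
  intro n
  induction n with
  | zero =>
    intro I hI
    refine ⟨0, le_rfl, AlgHom.id k _, RingHom.isIntegral_of_surjective _ Function.surjective_id, ?_⟩
    have hI' : I = ⊥ := by
      refine (Submodule.eq_bot_iff _).2 fun x hx => ?_
      rw [MvPolynomial.eq_C_of_isEmpty x] at hx ⊢
      by_contra hne
      exact hI (Ideal.eq_top_of_isUnit_mem _ hx ((isUnit_iff_ne_zero.2 fun h => hne (by rw [h, map_zero])).map _))
    subst hI'
    refine le_antisymm (fun x hx => ?_) (Ideal.span_le.2 ?_)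
    · rw [Ideal.mem_comap, Ideal.mem_bot] at hx
      rw [show x = 0 from hx]
      exact zero_mem _
    · rintro _ ⟨⟨i, -⟩, rfl⟩
      exact i.elim0
  | succ d ih =>
    intro I hI
    by_cases hb : I = ⊥
    · subst hb
      refine ⟨d + 1, le_rfl, AlgHom.id k _, RingHom.isIntegral_of_surjective _ Function.surjective_id, ?_⟩
      refine le_antisymm (fun x hx => ?_) (Ideal.span_le.2 ?_)
      · rw [Ideal.mem_comap, Ideal.mem_bot] at hx
        rw [show x = 0 from hx]
        exact zero_mem _
      · rintro _ ⟨⟨i, hi⟩, rfl⟩
        exact absurd i.2 (not_lt.2 hi)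
    obtain ⟨f, fI, fne⟩ := Submodule.exists_mem_ne_zero_of_ne_bot hb
    -- coordinates in which `f` is monic in `X 0`
    let T := NoetherNormZ.T f
    let z : MvPolynomial (Fin d) k →ₐ[k] MvPolynomial (Fin (d + 1)) k := T.symm.toAlgHom.comp (rename Fin.succ)
    let h₀ : MvPolynomial (Fin (d + 1)) k →ₐ[k] MvPolynomial (Fin (d + 1)) k :=
      aeval (Fin.lastCases f fun i => z (X i))
    have hzh : h₀.comp (rename Fin.castSucc) = z := MvPolynomial.algHom_ext fun i => by
      simp [h₀]
    have hX0 : T.symm (X 0) = X 0 := by
      show NoetherNormZ.T1 f (-1) (X 0) = X 0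
      simp [NoetherNormZ.T1]
    have hint0 : h₀.toRingHom.IsIntegral := by
      let P := finSuccEquiv k d (T f)
      have hu : IsUnit P.leadingCoeff := NoetherNormZ.T_leadingcoeff_isUnit f fne
      have hdeg : 0 < P.natDegree := by
        by_contra h0
        have hP : P = Polynomial.C P.leadingCoeff := by
          rw [Polynomial.eq_C_of_natDegree_eq_zero (by omega : P.natDegree = 0)]
          simp
        have hPu : IsUnit P := hP ▸ hu.map Polynomial.C
        refine hI (I.eq_top_of_isUnit_mem fI ?_)
        exact (isUnit_map_iff T f).1 ((isUnit_map_iff (finSuccEquiv k d) (T f)).1 hPu)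
      letI : Algebra (MvPolynomial (Fin (d + 1)) k) (MvPolynomial (Fin (d + 1)) k) := h₀.toRingHom.toAlgebra
      let Q : Polynomial (MvPolynomial (Fin (d + 1)) k) :=
        P.map (rename Fin.castSucc).toRingHom - Polynomial.C (X (Fin.last d))
      have hQ : Q.eval₂ h₀.toRingHom (X 0) = 0 := by
        rw [Polynomial.eval₂_sub, Polynomial.eval₂_C, Polynomial.eval₂_map]
        have hc : h₀.toRingHom.comp (rename Fin.castSucc).toRingHom = z.toRingHom :=
          congrArg AlgHom.toRingHom hzh
        rw [hc, show h₀.toRingHom (X (Fin.last d)) = f by simp [h₀], sub_eq_zero]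
        have key : ∀ g, (finSuccEquiv k d g).eval₂ z.toRingHom (X 0) = T.symm g := fun g => by
          induction g using MvPolynomial.induction_on with
          | C a =>
            simp [finSuccEquiv_apply, z]
            exact (T.symm.commutes a).symm
          | add p q hp hq => simp only [map_add, Polynomial.eval₂_add, hp, hq]
          | mul_X p i hp =>
            rw [map_mul, Polynomial.eval₂_mul, hp, map_mul]
            congr 1
            cases i using Fin.cases with
            | zero => rw [finSuccEquiv_X_zero, Polynomial.eval₂_X, hX0]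
            | succ j => rw [finSuccEquiv_X_succ, Polynomial.eval₂_C]; simp [z]
        rw [key, AlgEquiv.symm_apply_apply]
      have hQu : IsUnit Q.leadingCoeff := by
        have hdegmap : (P.map (rename Fin.castSucc).toRingHom).natDegree = P.natDegree :=
          Polynomial.natDegree_map_eq_of_injective (rename_injective _ (Fin.castSucc_injective d)) P
        rw [Polynomial.leadingCoeff, show Q.natDegree = P.natDegree by
          rw [Polynomial.natDegree_sub_C, hdegmap], Polynomial.coeff_sub, Polynomial.coeff_map,
          Polynomial.coeff_C, if_neg (by omega), sub_zero]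
        exact hu.map _
      have h0int : IsIntegral (MvPolynomial (Fin (d + 1)) k) (X 0 : MvPolynomial (Fin (d + 1)) k) := by
        obtain ⟨c, hc⟩ := hQu.exists_left_inv
        refine ⟨Polynomial.C c * Q, Polynomial.monic_C_mul_of_mul_leadingCoeff_eq_one hc, ?_⟩
        rw [Polynomial.eval₂_mul]
        exact mul_eq_zero_of_right _ hQ
      intro x
      show IsIntegral (MvPolynomial (Fin (d + 1)) k) x
      induction x using MvPolynomial.induction_on with
      | C a =>
        have : algebraMap (MvPolynomial (Fin (d + 1)) k) (MvPolynomial (Fin (d + 1)) k) (C a) = C a := h₀.commutes a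
        exact this ▸ isIntegral_algebraMap
      | add p q hp hq => exact hp.add hq
      | mul_X p i hp =>
        refine hp.mul ?_
        cases i using Fin.cases with
        | zero => exact h0int
        | succ j =>
          have hz' : algebraMap (MvPolynomial (Fin (d + 1)) k) (MvPolynomial (Fin (d + 1)) k) (X j.castSucc) = z (X j) := by
            show h₀ (X j.castSucc) = _
            simp [h₀]
          have hj : (X j.succ : MvPolynomial (Fin (d + 1)) k) =
              z (X j) + (X 0) ^ ((2 + f.totalDegree) ^ j.succ.1) := by
            have e1 : z (X j) = T.symm (X j.succ) := by simp [z]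
            rw [e1]
            show _ = NoetherNormZ.T1 f (-1) (X j.succ) + _
            simp [NoetherNormZ.T1]
          rw [hj]
          exact (hz' ▸ isIntegral_algebraMap).add (h0int.pow _)
    -- induction
    let J := I.comap z.toRingHom
    obtain ⟨r, hr, h', hint', hcomap'⟩ := ih J (Ideal.comap_ne_top _ hI)
    let L : MvPolynomial (Fin (d + 1)) k →ₐ[k] MvPolynomial (Fin (d + 1)) k :=
      aeval (Fin.lastCases (X (Fin.last d)) fun i => rename Fin.castSucc (h' (X i)))
    have hL : L.comp (rename Fin.castSucc) = (rename Fin.castSucc).comp h' := MvPolynomial.algHom_ext fun i => by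
      simp [L]
    have hintL : L.toRingHom.IsIntegral := by
      letI : Algebra (MvPolynomial (Fin (d + 1)) k) (MvPolynomial (Fin (d + 1)) k) := L.toRingHom.toAlgebra
      intro x
      show IsIntegral (MvPolynomial (Fin (d + 1)) k) x
      induction x using MvPolynomial.induction_on with
      | C a =>
        have : algebraMap (MvPolynomial (Fin (d + 1)) k) (MvPolynomial (Fin (d + 1)) k) (C a) = C a := L.commutes a
        exact this ▸ isIntegral_algebraMap
      | add p q hp hq => exact hp.add hq
      | mul_X p i hp =>
        refine hp.mul ?_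
        cases i using Fin.lastCases with
        | last =>
          have : algebraMap (MvPolynomial (Fin (d + 1)) k) (MvPolynomial (Fin (d + 1)) k) (X (Fin.last d)) = X (Fin.last d) := by
            show L (X (Fin.last d)) = _
            simp [L]
          exact this ▸ isIntegral_algebraMap
        | cast j =>
          obtain ⟨Q, hQm, hQ⟩ := hint' (X j)
          refine ⟨Q.map (rename Fin.castSucc).toRingHom, hQm.map _, ?_⟩
          have h1 := congrArg (rename Fin.castSucc).toRingHom hQ
          rw [map_zero, Polynomial.hom_eval₂] at h1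
          rw [Polynomial.eval₂_map]
          refine Eq.trans ?_ h1
          congr 1
          · exact congrArg AlgHom.toRingHom hL
          · simp
    refine ⟨r, hr.trans d.le_succ, h₀.comp L, hintL.trans _ _ hint0, ?_⟩
    have hcastSucc : ∀ g, h₀ (L (rename Fin.castSucc g)) = z (h' g) := fun g => by
      rw [← AlgHom.comp_apply L, hL, AlgHom.comp_apply, ← AlgHom.comp_apply h₀, hzh]
    have hspan : spanGE k (d + 1) r ≤ I.comap (h₀.comp L).toRingHom := by
      refine Ideal.span_le.2 ?_
      rintro _ ⟨⟨i, hi⟩, rfl⟩
      show h₀ (L (X i)) ∈ I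
      cases i using Fin.lastCases with
      | last => simpa [L, h₀] using fI
      | cast j =>
        rw [show (X j.castSucc : MvPolynomial (Fin (d + 1)) k) = rename Fin.castSucc (X j) by simp, hcastSucc]
        have : X j ∈ J.comap h'.toRingHom := hcomap' ▸ Ideal.subset_span ⟨⟨j, by simpa using hi⟩, rfl⟩
        exact this
    refine le_antisymm (fun g hg => ?_) hspan
    have h1 := sub_rename_killGE_mem k (hr.trans d.le_succ) g
    have h2 : rename (Fin.castLE (hr.trans d.le_succ)) (killGE k r g) =
        rename Fin.castSucc (rename (Fin.castLE hr) (killGE k r g)) := by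
      rw [rename_rename]; rfl
    have h3 : rename (Fin.castLE (hr.trans d.le_succ)) (killGE k r g) ∈ I.comap (h₀.comp L).toRingHom := by
      have := sub_mem hg (hspan h1)
      rwa [sub_sub_cancel] at this
    rw [h2] at h3
    change h₀ (L _) ∈ I at h3
    rw [hcastSucc] at h3
    have h4 : rename (Fin.castLE hr) (killGE k r g) ∈ J.comap h'.toRingHom := h3
    rw [hcomap'] at h4
    have h5 := killGE_eq_zero_of_mem k _ h4
    rw [killGE_rename] at h5
    simpa [h5] using h1

end Groth.Agent.H1Quasi
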