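import Groth.Agent.H1Quasi.FiniteFibre
import Groth.Agent.H1Quasi.NormalizeAt
import Mathlib

/-!
# Quasi-finite coordinates adapted to a prime
-/

set_option autoImplicit false
set_option linter.style.haveILetI false

open TensorProduct

namespace Groth.Agent.H1Quasi

open Groth.Agent.FibDim

universe u

variable {A B : Type u} [CommRing A] [CommRing B] [Algebra A B]

theorem exists_adapted [Algebra.FiniteType A B] (P : PrimeSpectrum B) (p : Ideal A) [p.IsPrime]
    (hp : (PrimeSpectrum.comap (algebraMap A B) P).asIdeal = p) {n : ℕ} (b : Fin n → B)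
    (hfin : (MvPolynomial.aeval (R := (PrimeSpectrum.comap (algebraMap A B) P).asIdeal.ResidueField)
        fun i => (1 : (PrimeSpectrum.comap (algebraMap A B) P).asIdeal.ResidueField) ⊗ₜ[A] b i).Finite) :
    ∃ (r : ℕ) (_ : r ≤ n) (b' : Fin n → B) (g : B), g ∉ P.asIdeal ∧
      (letI := (MvPolynomial.aeval (R := A) b').toRingHom.toAlgebra
      Algebra.QuasiFinite (MvPolynomial (Fin n) A) (Localization.Away g)) ∧
      (∀ H : MvPolynomial (Fin n) A, MvPolynomial.aeval b' H ∈ P.asIdeal ↔
        MvPolynomial.map (algebraMap A p.ResidueField) H ∈ spanGE p.ResidueField n r) ∧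
      (MvPolynomial.aeval (R := p.ResidueField) fun i => (1 : p.ResidueField) ⊗ₜ[A] b' i).Finite := by
  classical
  subst hp
  set p := (PrimeSpectrum.comap (algebraMap A B) P).asIdeal with hp
  set ψ : MvPolynomial (Fin n) p.ResidueField →ₐ[p.ResidueField] p.Fiber B :=
    MvPolynomial.aeval fun i => (1 : p.ResidueField) ⊗ₜ[A] b i with hψ
  have hcomm : ∀ (c : Fin n → B) (H : MvPolynomial (Fin n) A),
      MvPolynomial.aeval (R := p.ResidueField) (fun i => (1 : p.ResidueField) ⊗ₜ[A] c i)
        (MvPolynomial.map (algebraMap A p.ResidueField) H) =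
      (1 : p.ResidueField) ⊗ₜ[A] MvPolynomial.aeval c H := by
    intro c H
    rw [MvPolynomial.aeval_map_algebraMap]
    exact (MvPolynomial.comp_aeval_apply c
      (Algebra.TensorProduct.includeRight (R := A) (A := p.ResidueField) (B := B)) H).symm
  -- the prime of the fibre over `P`
  let e := PrimeSpectrum.preimageHomeomorphFiber A B ⟨p, inferInstance⟩
  let Pf : PrimeSpectrum (p.Fiber B) := e ⟨P, rfl⟩
  have hPf : ∀ x : B, (1 : p.ResidueField) ⊗ₜ[A] x ∈ Pf.asIdeal ↔ x ∈ P.asIdeal := fun x => by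
    have h1 : PrimeSpectrum.comap (Algebra.TensorProduct.includeRight (R := A)
        (A := p.ResidueField) (B := B)).toRingHom Pf = P :=
      congrArg (fun z => z.1) (e.symm_apply_apply ⟨P, rfl⟩)
    exact Iff.of_eq (congrArg (fun z : PrimeSpectrum B => x ∈ z.asIdeal) h1)
  let I := Pf.asIdeal.comap ψ.toRingHom
  obtain ⟨r, hr, h, hint, hI⟩ := exists_finite_comap_eq p.ResidueField n I (Ideal.comap_ne_top _ Pf.isPrime.ne_top)
  choose s hs H hH using fun i => exists_C_mul_mem_range (A := A) p (h (MvPolynomial.X i))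
  have hs0 : ∀ i, algebraMap A p.ResidueField (s i) ≠ 0 := fun i => by simpa using hs i
  -- rescaling
  let σ : MvPolynomial (Fin n) p.ResidueField →ₐ[p.ResidueField] MvPolynomial (Fin n) p.ResidueField :=
    MvPolynomial.aeval fun i => MvPolynomial.C (algebraMap A p.ResidueField (s i)) * MvPolynomial.X i
  let σ' : MvPolynomial (Fin n) p.ResidueField →ₐ[p.ResidueField] MvPolynomial (Fin n) p.ResidueField :=
    MvPolynomial.aeval fun i => MvPolynomial.C (algebraMap A p.ResidueField (s i))⁻¹ * MvPolynomial.X i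
  have hσσ' : σ.comp σ' = AlgHom.id _ _ := MvPolynomial.algHom_ext fun i => by
    simp only [σ, σ', AlgHom.comp_apply, MvPolynomial.aeval_X, map_mul, AlgHom.id_apply,
      MvPolynomial.aeval_C, MvPolynomial.algebraMap_eq]
    rw [← mul_assoc, ← map_mul, inv_mul_cancel₀ (hs0 i), map_one, one_mul]
  have hσ'σ : σ'.comp σ = AlgHom.id _ _ := MvPolynomial.algHom_ext fun i => by
    simp only [σ, σ', AlgHom.comp_apply, MvPolynomial.aeval_X, map_mul, AlgHom.id_apply,
      MvPolynomial.aeval_C, MvPolynomial.algebraMap_eq]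
    rw [← mul_assoc, ← map_mul, mul_inv_cancel₀ (hs0 i), map_one, one_mul]
  have hσspan : ∀ (c : Fin n → p.ResidueField) (g : MvPolynomial (Fin n) p.ResidueField),
      g ∈ spanGE p.ResidueField n r →
      MvPolynomial.aeval (fun i => MvPolynomial.C (c i) * MvPolynomial.X i) g ∈ spanGE p.ResidueField n r := by
    intro c g hg
    refine (Ideal.span_le (I := Ideal.comap _ (spanGE p.ResidueField n r))).2 ?_ hg
    rintro _ ⟨⟨i, hi⟩, rfl⟩
    rw [SetLike.mem_coe, Ideal.mem_comap, MvPolynomial.aeval_X]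
    exact Ideal.mul_mem_left _ _ (Ideal.subset_span ⟨⟨i, hi⟩, rfl⟩)
  let b' : Fin n → B := fun i => MvPolynomial.aeval b (H i)
  let ψ' : MvPolynomial (Fin n) p.ResidueField →ₐ[p.ResidueField] p.Fiber B :=
    MvPolynomial.aeval fun i => (1 : p.ResidueField) ⊗ₜ[A] b' i
  have hψ' : ψ' = ψ.comp (h.comp σ) := MvPolynomial.algHom_ext fun i => by
    simp only [ψ', σ, AlgHom.comp_apply, MvPolynomial.aeval_X, map_mul, b', ← hcomm b (H i), ← hH i]
    congr 1
    simp [hψ]
  have hft : h.toRingHom.FiniteType := RingHom.FiniteType.of_comp_finiteType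
    (f := algebraMap p.ResidueField (MvPolynomial (Fin n) p.ResidueField)) (by
      rw [show h.toRingHom.comp (algebraMap p.ResidueField (MvPolynomial (Fin n) p.ResidueField)) =
        algebraMap p.ResidueField (MvPolynomial (Fin n) p.ResidueField) from RingHom.ext h.commutes]
      exact RingHom.finiteType_algebraMap.2 inferInstance)
  have hhfin : h.Finite := RingHom.Finite.of_isIntegral_of_finiteType hint hft
  have hfin' : ψ'.Finite :=
    hψ' ▸ AlgHom.Finite.comp hfin (AlgHom.Finite.comp hhfin
      (AlgHom.Finite.of_surjective σ fun g => ⟨σ' g, DFunLike.congr_fun hσσ' g⟩))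
  obtain ⟨g, hg, hQF⟩ := exists_quasiFinite_of_finite_fiber P b' hfin'
  refine ⟨r, hr, b', g, hg, hQF, fun G => ?_, hfin'⟩
  rw [← hPf, ← hcomm b' G]
  show ψ' _ ∈ Pf.asIdeal ↔ _
  rw [hψ']
  constructor
  · intro hG
    have h1 : σ (MvPolynomial.map (algebraMap A p.ResidueField) G) ∈ spanGE p.ResidueField n r := hI ▸ hG
    have h2 := hσspan (fun i => (algebraMap A p.ResidueField (s i))⁻¹) _ h1
    rwa [show MvPolynomial.aeval (fun i => MvPolynomial.C (algebraMap A p.ResidueField (s i))⁻¹ * MvPolynomial.X i)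
      (σ (MvPolynomial.map (algebraMap A p.ResidueField) G)) = _ from DFunLike.congr_fun hσ'σ _] at h2
  · intro hG
    exact (hI.symm ▸ hσspan (fun i => algebraMap A p.ResidueField (s i)) _ hG :
      σ (MvPolynomial.map (algebraMap A p.ResidueField) G) ∈ I.comap h.toRingHom)

/-- Membership in `p A[X] + (X_i, i ≥ r)` is read in `κ(p)[X]`. -/
theorem mem_map_sup_spanGE_iff (p : Ideal A) [p.IsPrime] {n r : ℕ} (hr : r ≤ n) (G : MvPolynomial (Fin n) A) :
    MvPolynomial.map (algebraMap A p.ResidueField) G ∈ spanGE p.ResidueField n r ↔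
      G ∈ p.map (MvPolynomial.C : A →+* MvPolynomial (Fin n) A) ⊔ spanGE A n r := by
  have hgen : (spanGE A n r).map (MvPolynomial.map (algebraMap A p.ResidueField)) ≤ spanGE p.ResidueField n r := by
    rw [Ideal.map_span, Ideal.span_le]
    rintro _ ⟨_, ⟨i, rfl⟩, rfl⟩
    rw [MvPolynomial.map_X]
    exact Ideal.subset_span ⟨i, rfl⟩
  constructor
  · intro hG
    have h1 := sub_rename_killGE_mem A hr G
    set G₀ := MvPolynomial.rename (Fin.castLE hr) (killGE A r G)
    have h2 : MvPolynomial.map (algebraMap A p.ResidueField) G₀ ∈ spanGE p.ResidueField n r := by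
      have := sub_mem hG (hgen (Ideal.mem_map_of_mem (MvPolynomial.map (algebraMap A p.ResidueField)) h1))
      rwa [map_sub, sub_sub_cancel] at this
    have h3 : MvPolynomial.map (algebraMap A p.ResidueField) (killGE A r G) = 0 := by
      have h4 := killGE_eq_zero_of_mem _ _ h2
      rwa [MvPolynomial.map_rename, killGE_rename] at h4
    have h5 : G₀ ∈ p.map (MvPolynomial.C : A →+* MvPolynomial (Fin n) A) := by
      rw [MvPolynomial.mem_map_C_iff]
      intro d
      rw [← Ideal.algebraMap_residueField_eq_zero, ← MvPolynomial.coeff_map, MvPolynomial.map_rename, h3, map_zero,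
        MvPolynomial.coeff_zero]
    have := add_mem (Submodule.mem_sup_right h1) (Submodule.mem_sup_left (T := spanGE A n r) h5)
    simpa [G₀] using this
  · intro hG
    refine (sup_le (Ideal.map_le_iff_le_comap.2 fun x hx => ?_) (Ideal.map_le_iff_le_comap.1 hgen)) hG
    show MvPolynomial.map (algebraMap A p.ResidueField) (MvPolynomial.C x) ∈ spanGE p.ResidueField n r
    rw [MvPolynomial.map_C, (Ideal.algebraMap_residueField_eq_zero).2 hx, map_zero]
    exact zero_mem _

end Groth.Agent.H1Quasi
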