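import Groth.Agent.FibDim.Alg
import Mathlib

/-!
# Quasi-finite charts from a finite map on the fibre
-/

set_option autoImplicit false
set_option linter.style.haveILetI false

open TensorProduct Topology

namespace Groth.Agent.H1Quasi

open Groth.Agent.FibDim

universe u

variable {A B : Type u} [CommRing A] [CommRing B] [Algebra A B]

/-- If the fibre over `p` is finite over `κ(p)[X]` through the elements `b`, then `A[X] → B` is
quasi-finite near `P`. -/
theorem exists_quasiFinite_of_finite_fiber [Algebra.FiniteType A B] (P : PrimeSpectrum B) {m : ℕ} (b : Fin m → B)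
    (hfin₀ : (MvPolynomial.aeval (R := (PrimeSpectrum.comap (algebraMap A B) P).asIdeal.ResidueField)
        fun i => (1 : (PrimeSpectrum.comap (algebraMap A B) P).asIdeal.ResidueField) ⊗ₜ[A] b i).Finite) :
    ∃ g : B, g ∉ P.asIdeal ∧
      letI := (MvPolynomial.aeval (R := A) b).toRingHom.toAlgebra
      Algebra.QuasiFinite (MvPolynomial (Fin m) A) (Localization.Away g) := by
  set p := (PrimeSpectrum.comap (algebraMap A B) P).asIdeal with hp
  set ψ' : MvPolynomial (Fin m) p.ResidueField →ₐ[p.ResidueField] p.Fiber B :=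
    MvPolynomial.aeval fun i => (1 : p.ResidueField) ⊗ₜ[A] b i with hψ'
  have hfin' : ψ'.Finite := hfin₀
  letI := (MvPolynomial.aeval (R := A) b).toRingHom.toAlgebra
  haveI : IsScalarTower A (MvPolynomial (Fin m) A) B :=
    IsScalarTower.of_algebraMap_eq fun a => ((MvPolynomial.aeval (R := A) b).commutes a).symm
  haveI : Algebra.FiniteType (MvPolynomial (Fin m) A) B :=
    Algebra.FiniteType.of_restrictScalars_finiteType A _ B
  have hcomm : ψ'.toRingHom.comp (MvPolynomial.map (algebraMap A p.ResidueField)) =
      (Algebra.TensorProduct.includeRight (R := A) (A := p.ResidueField) (B := B)).toRingHom.comp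
        (algebraMap (MvPolynomial (Fin m) A) B) := by
    refine MvPolynomial.ringHom_ext (fun a => ?_) fun i => ?_
    · simp [hψ', RingHom.algebraMap_toAlgebra]
    · simp [hψ', RingHom.algebraMap_toAlgebra]
  have hQF : Algebra.QuasiFiniteAt (MvPolynomial (Fin m) A) P.asIdeal := by
    refine Algebra.QuasiFiniteAt.of_isOpen_singleton_fiber P ?_
    set Q := PrimeSpectrum.comap (algebraMap (MvPolynomial (Fin m) A) B) P
    let e := PrimeSpectrum.preimageHomeomorphFiber A B ⟨p, inferInstance⟩
    have hmem : ∀ R : ↥(PrimeSpectrum.comap (algebraMap (MvPolynomial (Fin m) A) B) ⁻¹' {Q}),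
        R.1 ∈ PrimeSpectrum.comap (algebraMap A B) ⁻¹' {⟨p, inferInstance⟩} := fun R => by
      have h1 : PrimeSpectrum.comap (algebraMap (MvPolynomial (Fin m) A) B) R.1 = Q := R.2
      show PrimeSpectrum.comap (algebraMap A B) R.1 = PrimeSpectrum.comap (algebraMap A B) P
      rw [IsScalarTower.algebraMap_eq A (MvPolynomial (Fin m) A) B, PrimeSpectrum.comap_comp_apply, h1,
        ← PrimeSpectrum.comap_comp_apply]
    let j : ↥(PrimeSpectrum.comap (algebraMap (MvPolynomial (Fin m) A) B) ⁻¹' {Q}) →
        PrimeSpectrum (p.Fiber B) := fun R => e ⟨R.1, hmem R⟩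
    have hj : IsInducing j := e.isEmbedding.isInducing.comp
      (IsInducing.subtypeVal.codRestrict fun R => hmem R)
    have hjinj : Function.Injective j := fun R R' hR =>
      Subtype.ext (congrArg (fun z => z.1) (e.injective hR) : _)
    have hback : ∀ R, PrimeSpectrum.comap (MvPolynomial.map (algebraMap A p.ResidueField))
        (PrimeSpectrum.comap ψ'.toRingHom (j R)) = Q := fun R => by
      rw [← PrimeSpectrum.comap_comp_apply, hcomm, PrimeSpectrum.comap_comp_apply]
      have h1 : PrimeSpectrum.comap (Algebra.TensorProduct.includeRight (R := A)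
          (A := p.ResidueField) (B := B)).toRingHom (j R) = R.1 :=
        congrArg (fun z => z.1) (e.symm_apply_apply ⟨R.1, hmem R⟩)
      rw [h1]
      exact R.2
    letI := ψ'.toRingHom.toAlgebra
    haveI : Module.Finite (MvPolynomial (Fin m) p.ResidueField) (p.Fiber B) := hfin'
    have hdisc : IsDiscrete (Set.range j) := by
      refine (Algebra.QuasiFinite.isDiscrete_comap_preimage_singleton
        (R := MvPolynomial (Fin m) p.ResidueField) (S := p.Fiber B)
        (PrimeSpectrum.comap ψ'.toRingHom (j ⟨P, rfl⟩))).mono ?_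
      rintro _ ⟨R, rfl⟩
      exact comap_map_residueField_injective p ((hback R).trans (hback _).symm)
    haveI := hdisc.1
    haveI : DiscreteTopology ↥(PrimeSpectrum.comap (algebraMap (MvPolynomial (Fin m) A) B) ⁻¹' {Q}) :=
      ((IsEmbedding.mk hj hjinj).toHomeomorph).symm.discreteTopology
    exact isOpen_discrete _
  obtain ⟨S', hS', r, hr, hbij⟩ :=
    Algebra.QuasiFiniteAt.exists_fg_and_exists_notMem_and_awayMap_bijective
      (R := MvPolynomial (Fin m) A) P.asIdeal
  haveI : Module.Finite (MvPolynomial (Fin m) A) S' := ⟨(Submodule.fg_top _).mpr hS'⟩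
  haveI : Algebra.QuasiFinite (MvPolynomial (Fin m) A) (Localization.Away r) :=
    .trans _ S' _
  have hsurj : Function.Surjective (Localization.awayMapₐ S'.val r) := hbij.2
  refine ⟨r.1, hr, ?_⟩
  exact Algebra.QuasiFinite.of_surjective_algHom (R := MvPolynomial (Fin m) A)
    (S := Localization.Away r) (Localization.awayMapₐ S'.val r) hsurj

end Groth.Agent.H1Quasi
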